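import Mathlib
import Cfsg.Agent.Lib.KnownSimple.Order7920.Tools
import Cfsg.Agent.Lib.SmallGroups.Basic
import Cfsg.Agent.Lib.SmallGroups.MElevenDegrees.Local
import Cfsg.Agent.Lib.SylowNumbers.TwoPrimeAddOne

/-!
A group of order 7920 with the numbers of elements of equal order of `M₁₁` is simple.
-/

set_option autoImplicit false

namespace CfsgLib.MElevenNSE

open Subgroup

variable {G : Type*} [Group G] [Finite G]

theorem card_sylow_eleven (hG : Nat.card G = 7920) [Fact (Nat.Prime 11)] (P : Sylow 11 G) :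
    Nat.card (P : Subgroup G) = 11 := by
  simpa using CfsgLib.SmallGroups.card_sylow_eq (a := 1) (m := 720) (by rw [hG]; rfl) (by norm_num) P

theorem zpowers_eq_sylow (hG : Nat.card G = 7920) [Fact (Nat.Prime 11)] {x : G} (hx : orderOf x = 11) :
    ∃ P : Sylow 11 G, (P : Subgroup G) = zpowers x := by
  have h : IsPGroup 11 (zpowers x) := IsPGroup.of_card (n := 1) (by rw [Nat.card_zpowers, hx, pow_one])
  obtain ⟨P, hP⟩ := h.exists_le_sylow
  exact ⟨P, (eq_of_le_of_card_ge hP (by rw [card_sylow_eleven hG, Nat.card_zpowers, hx])).symm⟩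

/-- There are ten elements of order eleven for each Sylow subgroup. -/
theorem card_orderOf_eleven (hG : Nat.card G = 7920) [Fact (Nat.Prime 11)] :
    Nat.card {g : G // orderOf g = 11} = Nat.card (Sylow 11 G) * 10 := by
  classical
  haveI := Fintype.ofFinite G
  haveI := Fintype.ofFinite (Sylow 11 G)
  choose f hf using fun g : {g : G // orderOf g = 11} => zpowers_eq_sylow hG g.2
  rw [Nat.card_congr (Equiv.sigmaFiberEquiv f).symm, Nat.card_sigma]
  suffices h : ∀ P : Sylow 11 G, Nat.card {g // f g = P} = 10 by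
    rw [Finset.sum_congr rfl fun P _ => h P, Finset.sum_const, Finset.card_univ, smul_eq_mul,
      Nat.card_eq_fintype_card]
  intro P
  have e : {g // f g = P} ≃ {y : (P : Subgroup G) // y ≠ 1} :=
    { toFun := fun g => ⟨⟨(g.1 : G), by
        have h1 := mem_zpowers (g.1 : G)
        rw [← hf g.1, g.2] at h1
        exact h1⟩, fun h => by
          have h2 := g.1.2
          rw [show (g.1 : G) = 1 from congrArg Subtype.val h, orderOf_one] at h2
          norm_num at h2⟩
      invFun := fun y => ⟨⟨(y.1 : G), by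
        have h1 : orderOf y.1 ∣ 11 := (_root_.orderOf_dvd_natCard y.1).trans (card_sylow_eleven hG P).dvd
        rcases (Nat.dvd_prime (by norm_num)).1 h1 with h | h
        · exact absurd (orderOf_eq_one_iff.1 h) y.2
        · rw [orderOf_coe, h]⟩, by
        refine Sylow.ext ((hf _).trans ?_)
        refine eq_of_le_of_card_ge (zpowers_le.2 y.1.2) ?_
        refine (card_sylow_eleven hG P).le.trans ?_
        rw [Nat.card_zpowers]
        show 11 ≤ orderOf ((y.1 : (P : Subgroup G)) : G)
        rw [orderOf_coe]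
        rcases (Nat.dvd_prime (by norm_num)).1 ((_root_.orderOf_dvd_natCard y.1).trans (card_sylow_eleven hG P).dvd) with h | h
        · exact absurd (orderOf_eq_one_iff.1 h) y.2
        · rw [h]⟩
      left_inv := fun g => rfl
      right_inv := fun y => rfl }
  rw [Nat.card_congr e, Nat.card_eq_fintype_card, Fintype.card_subtype_compl, Fintype.card_subtype_eq,
    ← Nat.card_eq_fintype_card, card_sylow_eleven hG]

/-- With 144 Sylow subgroups, an element of order eleven normalizes no nontrivial `{2,3}`-part. -/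
theorem not_dvd_of_normalized (hG : Nat.card G = 7920) [Fact (Nat.Prime 11)]
    (hn : Nat.card (Sylow 11 G) = 144) {x : G} (hx : orderOf x = 11) (M : Subgroup G)
    (hM : ∀ u ∈ M, x * u * x⁻¹ ∈ M) (h11 : ¬ 11 ∣ Nat.card M) {q : ℕ} (hq : q = 2 ∨ q = 3) :
    ¬ q ∣ Nat.card M := by
  intro hqM
  have hqp : q.Prime := by rcases hq with rfl | rfl <;> norm_num
  have hxM : x ∈ normalizer (M : Set G) := by
    haveI : Finite M := inferInstance
    refine mem_normalizer_iff.2 fun u => ⟨fun h => hM u h, fun h => ?_⟩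
    have hinj : Function.Injective (fun v : M => (⟨x * v * x⁻¹, hM v v.2⟩ : M)) := fun a b hab =>
      Subtype.ext (mul_left_cancel (mul_right_cancel (congrArg Subtype.val hab)))
    obtain ⟨v, hv⟩ := (Finite.injective_iff_surjective.1 hinj) ⟨_, h⟩
    have : (v : G) = u := mul_left_cancel (mul_right_cancel (congrArg Subtype.val hv))
    exact this ▸ v.2
  set H := normalizer (M : Set G)
  haveI : (M.subgroupOf H).Normal := normal_in_normalizer
  have hc : Nat.card (M.subgroupOf H) = Nat.card M := Nat.card_congr (subgroupOfEquivOfLe le_normalizer).toEquiv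
  have h720 : Nat.card M ∣ 720 := by
    have h := M.card_subgroup_dvd_card
    rw [hG, show (7920:ℕ) = 11 * 720 by rfl] at h
    exact ((Nat.Prime.coprime_iff_not_dvd (by norm_num)).2 h11).symm.dvd_of_dvd_mul_left h
  obtain ⟨y, -, hy, hxy⟩ := CfsgLib.KnownSimple.Order7920.exists_commute_of_coprime (M.subgroupOf H)
    (x := ⟨x, hxM⟩) (q := 11) (by norm_num) hqp (by rw [orderOf_mk, hx]) (by rw [hc]; exact h11)
    (by rw [hc]; exact hqM) 720 (by rw [hc]; exact h720) (by
      intro e he hd
      rcases hq with rfl | rfl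
      · have : e ≤ 4 := by
          by_contra hc
          exact absurd ((Nat.pow_dvd_pow 2 (show 5 ≤ e by omega)).trans hd) (by norm_num)
        interval_cases e <;> norm_num
      · have : e ≤ 2 := by
          by_contra hc
          exact absurd ((Nat.pow_dvd_pow 3 (show 3 ≤ e by omega)).trans hd) (by norm_num)
        interval_cases e <;> norm_num)
  obtain ⟨P, hP⟩ := zpowers_eq_sylow hG hx
  have hyN : (y : G) ∈ normalizer ((P : Subgroup G) : Set G) := by
    rw [hP]
    refine centralizer_le_normalizer _ (mem_centralizer_iff.2 ?_)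
    rintro _ ⟨k, rfl⟩
    exact (show Commute x (y : G) from congrArg Subtype.val hxy.eq).zpow_left k
  have h55 := CfsgLib.SmallGroups.card_sylow_mul_card_normalizer P
  rw [hn, hG] at h55
  have hd : orderOf (y : G) ∣ 55 := by
    rw [show (55 : ℕ) = Nat.card (normalizer ((P : Subgroup G) : Set G)) by omega]
    exact orderOf_dvd_natCard _ hyN
  rw [orderOf_coe, hy] at hd
  rcases hq with rfl | rfl <;> norm_num at hd

/-- No overgroup of a Sylow 11-subgroup with even order has a central Sylow normalizer. -/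
theorem not_burnside (hG : Nat.card G = 7920) [Fact (Nat.Prime 11)] (hn : Nat.card (Sylow 11 G) = 144)
    (H : Subgroup G) (h2 : 2 ∣ Nat.card H) (P : Sylow 11 H) (hP : Nat.card (P : Subgroup H) = 11)
    (hc : normalizer ((P : Subgroup H) : Set H) ≤ centralizer ((P : Subgroup H) : Set H)) : False := by
  have hcomp := MonoidHom.ker_transferSylow_isComplement' P hc
  set M := (MonoidHom.transferSylow P hc).ker with hM
  have hMc : Nat.card M * 11 = Nat.card H := hP ▸ hcomp.card_mul
  obtain ⟨x, hx⟩ := exists_prime_orderOf_dvd_card' (G := (P : Subgroup H)) 11 (by rw [hP])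
  have hxG : orderOf ((x : H) : G) = 11 := by rw [orderOf_coe, orderOf_coe, hx]
  have hcard : Nat.card (M.map H.subtype) = Nat.card M := card_map_of_injective H.subtype_injective
  have h11 : ¬ 11 ∣ Nat.card M := by
    intro h
    have h1 : 11 * 11 ∣ Nat.card H := hMc ▸ Nat.mul_dvd_mul_right h 11
    have := h1.trans H.card_subgroup_dvd_card
    rw [hG] at this
    norm_num at this
  have h2M : 2 ∣ Nat.card M := (Nat.Prime.dvd_mul Nat.prime_two).1 (hMc ▸ h2) |>.resolve_right (by norm_num)
  refine not_dvd_of_normalized hG hn hxG (M.map H.subtype) ?_ (by rw [hcard]; exact h11) (Or.inl rfl)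
    (by rw [hcard]; exact h2M)
  rintro _ ⟨u, hu, rfl⟩
  exact ⟨(x : H) * u * (x : H)⁻¹, (MonoidHom.normal_ker _).conj_mem u hu _, rfl⟩

theorem centralizer_eleven (hG : Nat.card G = 7920) [Fact (Nat.Prime 11)]
    (hn : Nat.card (Sylow 11 G) = 144) (P : Sylow 11 G) :
    Nat.card (centralizer ((P : Subgroup G) : Set G)) = 11 := by
  have h55 := CfsgLib.SmallGroups.card_sylow_mul_card_normalizer P
  rw [hn, hG] at h55
  have hP := card_sylow_eleven hG P
  haveI : IsCyclic (P : Subgroup G) := isCyclic_of_prime_card hP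
  haveI : IsMulCommutative (P : Subgroup G) := IsCyclic.isMulCommutative
  have h1 : 11 ∣ Nat.card (centralizer ((P : Subgroup G) : Set G)) :=
    by
    have := card_dvd_of_le (le_centralizer (P : Subgroup G))
    rwa [hP] at this
  have h2 : Nat.card (centralizer ((P : Subgroup G) : Set G)) ∣ 55 := by
    rw [show (55 : ℕ) = Nat.card (normalizer ((P : Subgroup G) : Set G)) by omega]
    exact card_dvd_of_le (centralizer_le_normalizer _)
  have key : ∀ c ∈ Nat.divisors 55, 11 ∣ c → c = 11 ∨ c = 55 := by decide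
  refine (key _ (Nat.mem_divisors.2 ⟨h2, by norm_num⟩) h1).resolve_right fun h => ?_
  have heq : centralizer ((P : Subgroup G) : Set G) = normalizer ((P : Subgroup G) : Set G) :=
    eq_of_le_of_card_ge (centralizer_le_normalizer _) (by omega)
  have hT : Nat.card (⊤ : Subgroup G) = 7920 := by rw [card_top, hG]
  refine not_burnside hG hn ⊤ (by rw [hT]; norm_num) (P.subtype le_top) ?_ ?_
  · rw [Sylow.coe_subtype, Nat.card_congr (subgroupOfEquivOfLe le_top).toEquiv, hP]
  · intro g hg
    rw [Sylow.coe_subtype] at hg ⊢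
    have hg' : (g : G) ∈ normalizer ((P : Subgroup G) : Set G) := by
      rw [← subgroupOf_normalizer_eq le_top] at hg
      exact hg
    rw [← heq] at hg'
    exact mem_centralizer_iff.2 fun u hu => Subtype.ext (mem_centralizer_iff.1 hg' u hu)

/-- A group of order 7920 with 144 Sylow 11-subgroups is simple. -/
theorem isSimpleGroup (hG : Nat.card G = 7920) [Fact (Nat.Prime 11)]
    (hn : Nat.card (Sylow 11 G) = 144) : IsSimpleGroup G := by
  haveI : Nontrivial G := Finite.one_lt_card_iff_nontrivial.1 (by omega)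
  refine ⟨fun N hN => ?_⟩
  by_contra hcon
  push_neg at hcon
  obtain ⟨hbot, htop⟩ := hcon
  haveI := hN
  obtain ⟨x, hx⟩ := exists_prime_orderOf_dvd_card' (G := G) 11 (by rw [hG]; norm_num)
  obtain ⟨P, hP⟩ := zpowers_eq_sylow hG hx
  have hdG : Nat.card N ∣ 7920 := hG ▸ N.card_subgroup_dvd_card
  by_cases h11 : 11 ∣ Nat.card N
  · have hi : ¬ 11 ∣ N.index := fun h => by
      have h1 := Nat.mul_dvd_mul h11 h
      rw [N.card_mul_index, hG] at h1
      norm_num at h1
    have hle : (P : Subgroup G) ≤ N := CfsgLib.SylowNumbers.sylow_le_of_normal hi P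
    have hNn : Nat.card (Sylow 11 N) = 144 := by
      rw [CfsgLib.SylowNumbers.card_sylow_of_normal hi, hn]
    have h55 := CfsgLib.SmallGroups.card_sylow_mul_card_normalizer (P.subtype hle)
    rw [hNn] at h55
    have hPN : Nat.card ((P.subtype hle : Sylow 11 N) : Subgroup N) = 11 := by
      rw [Sylow.coe_subtype, Nat.card_congr (subgroupOfEquivOfLe hle).toEquiv, card_sylow_eleven hG]
    set NP := normalizer (((P.subtype hle : Sylow 11 N) : Subgroup N) : Set N)
    have h11NP : 11 ∣ Nat.card NP := hPN ▸ card_dvd_of_le le_normalizer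
    have hNPd : Nat.card NP ∣ 55 := by
      obtain ⟨j, hj⟩ := hdG
      refine ⟨j, Nat.eq_of_mul_eq_mul_left (by norm_num : 0 < 144) ?_⟩
      rw [← mul_assoc, h55, ← hj]
    have key : ∀ c ∈ Nat.divisors 55, 11 ∣ c → c = 11 ∨ c = 55 := by decide
    rcases key _ (Nat.mem_divisors.2 ⟨hNPd, by norm_num⟩) h11NP with h | h
    · refine not_burnside hG hn N (by rw [← h55, h]; norm_num) (P.subtype hle) hPN ?_
      have hE : ((P.subtype hle : Sylow 11 N) : Subgroup N) = NP :=
        eq_of_le_of_card_ge le_normalizer (by rw [hPN, h])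
      haveI : IsCyclic ((P.subtype hle : Sylow 11 N) : Subgroup N) := isCyclic_of_prime_card hPN
      haveI : IsMulCommutative ((P.subtype hle : Sylow 11 N) : Subgroup N) := IsCyclic.isMulCommutative
      exact le_trans hE.ge (le_centralizer _)
    · exact htop (eq_top_of_card_eq N (by rw [← h55, h, hG]))
  · have h2 := not_dvd_of_normalized hG hn hx N (fun u hu => hN.conj_mem u hu x) h11 (Or.inl rfl)
    have h3 := not_dvd_of_normalized hG hn hx N (fun u hu => hN.conj_mem u hu x) h11 (Or.inr rfl)
    have key : ∀ c ∈ Nat.divisors 7920, ¬ 2 ∣ c → ¬ 3 ∣ c → ¬ 11 ∣ c → c = 1 ∨ c = 5 := by decide +kernel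
    rcases key _ (Nat.mem_divisors.2 ⟨hdG, by norm_num⟩) h2 h3 h11 with h | h
    · exact hbot (eq_bot_of_card_eq N h)
    · obtain ⟨y, hyN, hy1, hxy⟩ := CfsgLib.KnownSimple.Order7920.exists_commute_of_normalizes
        (by norm_num) hx N (fun u hu => hN.conj_mem u hu x) (by rw [h]; norm_num)
      have hyC : y ∈ centralizer ((P : Subgroup G) : Set G) := by
        rw [hP]
        refine mem_centralizer_iff.2 ?_
        rintro _ ⟨k, rfl⟩
        exact hxy.zpow_left k
      have d1 : orderOf y ∣ 11 := centralizer_eleven hG hn P ▸ orderOf_dvd_natCard _ hyC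
      have d2 : orderOf y ∣ 5 := h ▸ orderOf_dvd_natCard _ hyN
      exact hy1 (orderOf_eq_one_iff.1 (Nat.eq_one_of_dvd_coprimes (by norm_num) d1 d2))

/-- The set of numbers of elements of equal order of a simple group of order 7920. -/
theorem count_cases [IsSimpleGroup G] (hG : Nat.card G = 7920) [Fact (Nat.Prime 11)] (n : ℕ) :
    Nat.card {g : G // orderOf g = n} = 1440 ∨ Nat.card {g : G // orderOf g = n} = 1 ∨
      11 ∣ Nat.card {g : G // orderOf g = n} := by
  classical
  haveI := Fintype.ofFinite G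
  obtain ⟨P⟩ : Nonempty (Sylow 11 G) := inferInstance
  obtain ⟨hP, hC, he⟩ := CfsgLib.SmallGroups.MElevenDegrees.eleven hG P
  by_cases hn1 : n = 1
  · subst hn1
    refine Or.inr (Or.inl ?_)
    rw [Nat.card_eq_one_iff_exists]
    exact ⟨⟨1, orderOf_one⟩, fun g => Subtype.ext (orderOf_eq_one_iff.1 g.2)⟩
  by_cases hn11 : n = 11
  · subst hn11
    refine Or.inl ?_
    rw [card_orderOf_eleven hG]
    have h := CfsgLib.SmallGroups.card_sylow_mul_card_normalizer P
    have h1 : (centralizer ((P : Subgroup G) : Set G)).relIndex (normalizer ((P : Subgroup G) : Set G)) *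
        Nat.card (centralizer ((P : Subgroup G) : Set G)) = Nat.card (normalizer ((P : Subgroup G) : Set G)) :=
      (Nat.mul_comm _ _).trans (by
        rw [← Nat.card_congr (subgroupOfEquivOfLe (centralizer_le_normalizer ((P : Subgroup G) : Set G))).toEquiv]
        exact card_mul_index _)
    rw [he, hC] at h1
    rw [← h1, hG] at h
    omega
  refine Or.inr (Or.inr ?_)
  obtain ⟨x, hx⟩ := exists_prime_orderOf_dvd_card' (G := (P : Subgroup G)) 11 (by rw [hP])
  have hx' : orderOf (x : G) = 11 := by rw [orderOf_coe, hx]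
  have hcl : ∀ g : G, orderOf ((x : G) * g * (x : G)⁻¹) = orderOf g := fun g =>
    MulEquiv.orderOf_eq (MulAut.conj (x : G)) g
  let e : Equiv.Perm {g : G // orderOf g = n} :=
    (MulAut.conj (x : G)).toEquiv.subtypeEquiv fun g => by
      show orderOf g = n ↔ orderOf ((x : G) * g * (x : G)⁻¹) = n
      rw [hcl]
  have he11 : e ^ 11 = 1 := by
    apply Equiv.ext
    intro g
    have key : ∀ k : ℕ, ((e ^ k) g : G) = (x : G) ^ k * g * ((x : G) ^ k)⁻¹ := by
      intro k
      induction k with
      | zero => simp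
      | succ k ih =>
        rw [pow_succ' e k, Equiv.Perm.mul_apply]
        show (x : G) * ((e ^ k) g : G) * (x : G)⁻¹ = _
        rw [ih, pow_succ' (x : G) k]; group
    refine Subtype.ext ?_
    have hpow := pow_orderOf_eq_one (x : G)
    rw [hx'] at hpow
    rw [key, hpow]
    simp
  have hfix : Nat.card {g : {g : G // orderOf g = n} // e g = g} = 0 := by
    rw [Nat.card_eq_zero]
    left
    refine ⟨fun ⟨g, hg⟩ => ?_⟩
    have hcomm : Commute (x : G) (g : G) := mul_inv_eq_iff_eq_mul.1 (congrArg Subtype.val hg)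
    have hgC : (g : G) ∈ centralizer ((P : Subgroup G) : Set G) := by
      have hPx : (P : Subgroup G) = zpowers (x : G) :=
        (eq_of_le_of_card_ge (zpowers_le.2 x.2) (by rw [hP, Nat.card_zpowers, hx'])).symm
      rw [hPx]
      refine mem_centralizer_iff.2 ?_
      rintro _ ⟨k, rfl⟩
      exact hcomm.zpow_left k
    have hd : orderOf (g : G) ∣ 11 := hC ▸ orderOf_dvd_natCard _ hgC
    rw [g.2] at hd
    rcases (Nat.dvd_prime (by norm_num)).1 hd with h | h
    · exact hn1 h
    · exact hn11 h
  have hmod := CfsgLib.KnownSimple.Order7920.perm_fixed_modEq e he11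
  rw [hfix] at hmod
  exact Nat.modEq_zero_iff_dvd.1 hmod

/-- The transfer of the equal order counts from a simple group of order 7920. -/
theorem isSimpleGroup_of_counts {M : Type*} [Group M] [Finite M] [IsSimpleGroup M]
    (hM : Nat.card M = 7920) (hG : Nat.card G = 7920)
    (h : {c : ℕ | 0 < c ∧ ∃ n : ℕ, c = Nat.card {g : G // orderOf g = n}} =
      {c : ℕ | 0 < c ∧ ∃ n : ℕ, c = Nat.card {g : M // orderOf g = n}}) : IsSimpleGroup G := by
  haveI : Fact (Nat.Prime 11) := ⟨by norm_num⟩
  refine isSimpleGroup hG ?_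
  have h1 : Nat.card (Sylow 11 G) * 10 ∈
      {c : ℕ | 0 < c ∧ ∃ n : ℕ, c = Nat.card {g : M // orderOf g = n}} := by
    rw [← h]
    exact ⟨Nat.mul_pos Nat.card_pos (by norm_num), 11, (card_orderOf_eleven hG).symm⟩
  obtain ⟨-, n, hn⟩ := h1
  have hm := CfsgLib.SmallGroups.card_sylow_mem_filter (p := 11) (G := G) (a := 1) (m := 720)
    (by rw [hG]; rfl) (by norm_num)
  simp only [Finset.mem_filter, Finset.mem_range] at hm
  have key : ∀ k ∈ Nat.divisors 720, k % 11 = 1 → k = 1 ∨ k = 12 ∨ k = 45 ∨ k = 144 := by decide +kernel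
  have := key _ (Nat.mem_divisors.2 ⟨Nat.dvd_of_mod_eq_zero hm.2.1, by norm_num⟩) hm.2.2
  rcases count_cases hM n with e | e | e <;> omega

end CfsgLib.MElevenNSE
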