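import Cfsg.Agent.Lib.MElevenNSE.Graph
import Cfsg.Agent.Lib.Golay.Dodecad
import Cfsg.Prelude.Def_Sporadic

/-!
Recognition of the smallest Mathieu group from uniqueness by order, by element-order counts and by
the commuting graph.
-/

set_option autoImplicit false

namespace CfsgLib.MElevenNSE

open Cfsg CfsgLib.Golay
open scoped Pointwise

/-- Uniqueness by order gives an isomorphism with the concrete group. -/
theorem iso_of_unique {G : Type*} [Group G] [Finite G]
    (hu : ∀ (d : Finset GolayPt), d ∈ dodecads → ∀ p ∈ d,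
      Nonempty (G ≃* ↥(MulAction.stabilizer M24 d ⊓ MulAction.stabilizer M24 p)))
    (hu' : ∀ (d : Finset GolayPt), d ∈ dodecads → ∀ p ∈ d,
      Nonempty (↥Cfsg.Spor.M11 ≃* ↥(MulAction.stabilizer M24 d ⊓ MulAction.stabilizer M24 p))) :
    Nonempty (G ≃* ↥Cfsg.Spor.M11) := by
  have hp : pt 0 ∈ toSet baseDodecad := by decide +kernel
  obtain ⟨e⟩ := hu _ baseDodecad_mem _ hp
  obtain ⟨e'⟩ := hu' _ baseDodecad_mem _ hp
  exact ⟨e.trans e'.symm⟩

theorem isM11_M11 : IsM11 ↥Cfsg.Spor.M11 := ⟨M11_simple, card_M11⟩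

theorem isM11_of_nse {G : Type*} [Group G] [Finite G]
    (hcard : Nat.card G = Nat.card ↥Cfsg.Spor.M11)
    (hnse : {c : ℕ | 0 < c ∧ ∃ n : ℕ, c = Nat.card {g : G // orderOf g = n}} =
      {c : ℕ | 0 < c ∧ ∃ n : ℕ, c = Nat.card {g : ↥Cfsg.Spor.M11 // orderOf g = n}}) :
    IsM11 G := by
  haveI := M11_simple
  exact ⟨isSimpleGroup_of_counts card_M11 (hcard.trans card_M11) hnse, hcard.trans card_M11⟩

theorem isM11_of_commuting {H : Type*} [Group H] [Finite H]
    (f : {h : H // h ≠ 1} ≃ {g : ↥Cfsg.Spor.M11 // g ≠ 1})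
    (hf : ∀ x y : {h : H // h ≠ 1}, (x : H) * y = y * x ↔ ((f x) : ↥Cfsg.Spor.M11) * (f y) = (f y) * (f x)) :
    IsM11 H := by
  haveI := M11_simple
  exact ⟨isSimpleGroup_of_commuting card_M11 f hf, (card_eq_of_nonid_equiv f).trans card_M11⟩

end CfsgLib.MElevenNSE
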