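import Mathlib
import Cfsg.Agent.Lib.MElevenNSE.Basic

/-!
A group with the commuting graph of a simple group of order 7920 is simple of order 7920.
-/

set_option autoImplicit false

namespace CfsgLib.MElevenNSE

open Subgroup

variable {G M : Type*} [Group G] [Finite G] [Group M] [Finite M]

set_option linter.style.haveILetI false

theorem card_eq_of_nonid_equiv (f : {x : G // x ≠ 1} ≃ {y : M // y ≠ 1}) : Nat.card G = Nat.card M := by
  classical
  have hG := Nat.card_congr (Equiv.optionSubtypeNe (1 : G))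
  have hM := Nat.card_congr (Equiv.optionSubtypeNe (1 : M))
  rw [← hG, ← hM]
  exact Nat.card_congr (Equiv.optionCongr f)

theorem card_centralizer_eq_of_commuting (f : {x : G // x ≠ 1} ≃ {y : M // y ≠ 1})
    (hf : ∀ x y : {x : G // x ≠ 1}, (x : G) * y = y * x ↔ (f x : M) * f y = f y * f x)
    (x : {x : G // x ≠ 1}) :
    Nat.card (centralizer ({(x : G)} : Set G)) = Nat.card (centralizer ({(f x : M)} : Set M)) := by
  classical
  haveI := Fintype.ofFinite G
  haveI := Fintype.ofFinite M
  have e : {y : centralizer ({(x : G)} : Set G) // y ≠ 1} ≃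
      {y : centralizer ({(f x : M)} : Set M) // y ≠ 1} :=
    { toFun := fun y => ⟨⟨f ⟨y.1, fun h => y.2 (Subtype.ext h)⟩, mem_centralizer_singleton_iff.2
        ((hf ⟨y.1, fun h => y.2 (Subtype.ext h)⟩ x).1 (mem_centralizer_singleton_iff.1 y.1.2))⟩,
        fun h => (f ⟨y.1, fun h => y.2 (Subtype.ext h)⟩).2 (congrArg Subtype.val h)⟩
      invFun := fun y => ⟨⟨f.symm ⟨y.1, fun h => y.2 (Subtype.ext h)⟩, mem_centralizer_singleton_iff.2
        ((hf (f.symm ⟨y.1, fun h => y.2 (Subtype.ext h)⟩) x).2 (by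
          rw [f.apply_symm_apply]; exact mem_centralizer_singleton_iff.1 y.1.2))⟩,
        fun h => (f.symm ⟨y.1, fun h => y.2 (Subtype.ext h)⟩).2 (congrArg Subtype.val h)⟩
      left_inv := fun y => by
        apply Subtype.ext; apply Subtype.ext
        show (f.symm ⟨((f ⟨y.1, _⟩ : {y : M // y ≠ 1}) : M), _⟩ : G) = y.1
        rw [Subtype.coe_eta, f.symm_apply_apply]
      right_inv := fun y => by
        apply Subtype.ext; apply Subtype.ext
        show (f ⟨((f.symm ⟨y.1, _⟩ : {x : G // x ≠ 1}) : G), _⟩ : M) = y.1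
        rw [Subtype.coe_eta, f.apply_symm_apply] }
  exact card_eq_of_nonid_equiv e

omit [Finite G] in
theorem centralizer_map_conj (t : G) (K : Subgroup G) :
    centralizer ((K.map (MulAut.conj t).toMonoidHom : Subgroup G) : Set G) =
      (centralizer (K : Set G)).map (MulAut.conj t).toMonoidHom := by
  ext z
  constructor
  · intro hz
    refine ⟨(MulAut.conj t).symm z, mem_centralizer_iff.2 fun u hu => ?_, (MulAut.conj t).apply_symm_apply z⟩
    apply (MulAut.conj t).injective
    rw [map_mul, map_mul, MulEquiv.apply_symm_apply]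
    exact mem_centralizer_iff.1 hz _ ⟨u, hu, rfl⟩
  · rintro ⟨w, hw, rfl⟩
    refine mem_centralizer_iff.2 ?_
    rintro _ ⟨u, hu, rfl⟩
    show MulAut.conj t u * MulAut.conj t w = MulAut.conj t w * MulAut.conj t u
    rw [← map_mul, ← map_mul, mem_centralizer_iff.1 hw u hu]

theorem card_centralizer_eq_eleven_iff [IsSimpleGroup M] (hM : Nat.card M = 7920) {g : M} (hg : g ≠ 1) :
    Nat.card (centralizer ({g} : Set M)) = 11 ↔ orderOf g = 11 := by
  haveI : Fact (Nat.Prime 11) := ⟨by norm_num⟩
  haveI := Fintype.ofFinite M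
  constructor
  · intro h
    have hd : orderOf g ∣ 11 :=
      h ▸ orderOf_dvd_natCard (centralizer ({g} : Set M)) (mem_centralizer_singleton_iff.2 rfl)
    rcases (Nat.dvd_prime (by norm_num)).1 hd with h1 | h1
    · exact absurd (orderOf_eq_one_iff.1 h1) hg
    · exact h1
  · intro h
    obtain ⟨P, hP⟩ := zpowers_eq_sylow hM h
    obtain ⟨-, hC, -⟩ := CfsgLib.SmallGroups.MElevenDegrees.eleven hM P
    rw [← hC, hP, zpowers_eq_closure, centralizer_closure]

theorem count_eleven_simple [IsSimpleGroup M] (hM : Nat.card M = 7920) :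
    Nat.card {g : M // orderOf g = 11} = 1440 := by
  haveI : Fact (Nat.Prime 11) := ⟨by norm_num⟩
  haveI := Fintype.ofFinite M
  rw [card_orderOf_eleven hM]
  obtain ⟨P⟩ : Nonempty (Sylow 11 M) := inferInstance
  obtain ⟨hP, hC, he⟩ := CfsgLib.SmallGroups.MElevenDegrees.eleven hM P
  have h := CfsgLib.SmallGroups.card_sylow_mul_card_normalizer P
  have h1 : (centralizer ((P : Subgroup M) : Set M)).relIndex (normalizer ((P : Subgroup M) : Set M)) *
      Nat.card (centralizer ((P : Subgroup M) : Set M)) = Nat.card (normalizer ((P : Subgroup M) : Set M)) :=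
    (Nat.mul_comm _ _).trans (by
      rw [← Nat.card_congr (subgroupOfEquivOfLe (centralizer_le_normalizer ((P : Subgroup M) : Set M))).toEquiv]
      exact card_mul_index _)
  rw [he, hC] at h1
  rw [← h1, hM] at h
  omega

/-- The commuting graph of a simple group of order 7920 forces simplicity. -/
theorem isSimpleGroup_of_commuting [IsSimpleGroup M] (hM : Nat.card M = 7920)
    (f : {x : G // x ≠ 1} ≃ {y : M // y ≠ 1})
    (hf : ∀ x y : {x : G // x ≠ 1}, (x : G) * y = y * x ↔ (f x : M) * f y = f y * f x) :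
    IsSimpleGroup G := by
  classical
  haveI : Fact (Nat.Prime 11) := ⟨by norm_num⟩
  have hG : Nat.card G = 7920 := (card_eq_of_nonid_equiv f).trans hM
  refine isSimpleGroup hG ?_
  have hcent : ∀ x : {x : G // x ≠ 1}, Nat.card (centralizer ({(x : G)} : Set G)) = 11 ↔ orderOf (f x : M) = 11 :=
    fun x => by rw [card_centralizer_eq_of_commuting f hf x, card_centralizer_eq_eleven_iff hM (f x).2]
  have hord : ∀ x : {x : G // x ≠ 1}, Nat.card (centralizer ({(x : G)} : Set G)) = 11 → orderOf (x : G) = 11 := by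
    intro x h
    have hd : orderOf (x : G) ∣ 11 :=
      h ▸ orderOf_dvd_natCard (centralizer ({(x : G)} : Set G)) (mem_centralizer_singleton_iff.2 rfl)
    rcases (Nat.dvd_prime (by norm_num)).1 hd with h1 | h1
    · exact absurd (orderOf_eq_one_iff.1 h1) x.2
    · exact h1
  obtain ⟨y, hy⟩ := exists_prime_orderOf_dvd_card' (G := M) 11 (by rw [hM]; norm_num)
  have hy1 : y ≠ 1 := fun h => by rw [h, orderOf_one] at hy; norm_num at hy
  set x₀ := f.symm ⟨y, hy1⟩ with hx₀
  have hC₀ : Nat.card (centralizer ({(x₀ : G)} : Set G)) = 11 :=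
    (hcent x₀).2 (by rw [hx₀, f.apply_symm_apply]; exact hy)
  obtain ⟨P, hP⟩ := zpowers_eq_sylow hG (hord x₀ hC₀)
  have hall : ∀ g : G, orderOf g = 11 → Nat.card (centralizer ({g} : Set G)) = 11 := by
    intro g hg
    obtain ⟨Q, hQ⟩ := zpowers_eq_sylow hG hg
    obtain ⟨t, ht⟩ := MulAction.exists_smul_eq G P Q
    have hgQ : g ∈ (Q : Subgroup G) := hQ ▸ mem_zpowers g
    rw [← ht] at hgQ
    obtain ⟨k, hk⟩ : ∃ k : ℤ, t * (x₀ : G) ^ k * t⁻¹ = g := by
      rw [Sylow.coe_subgroup_smul] at hgQ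
      obtain ⟨u, hu, rfl⟩ := hgQ
      rw [SetLike.mem_coe, hP] at hu
      obtain ⟨k, rfl⟩ := hu
      exact ⟨k, rfl⟩
    have hzz : zpowers g = (zpowers (x₀ : G)).map (MulAut.conj t).toMonoidHom := by
      refine eq_of_le_of_card_ge (zpowers_le.2 ⟨(x₀ : G) ^ k, ⟨k, rfl⟩, hk⟩) ?_
      rw [card_map_of_injective (MulAut.conj t).injective, Nat.card_zpowers, Nat.card_zpowers, hg, hord x₀ hC₀]
    have hcc : centralizer ({g} : Set G) =
        (centralizer ({(x₀ : G)} : Set G)).map (MulAut.conj t).toMonoidHom := by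
      rw [← centralizer_closure, ← centralizer_closure ({(x₀ : G)} : Set G), ← zpowers_eq_closure,
        ← zpowers_eq_closure, hzz, centralizer_map_conj]
    rw [hcc, card_map_of_injective (MulAut.conj t).injective, hC₀]
  have hne : ∀ g : G, orderOf g = 11 → g ≠ 1 := fun g h h1 => by rw [h1, orderOf_one] at h; norm_num at h
  have hne' : ∀ g : M, orderOf g = 11 → g ≠ 1 := fun g h h1 => by rw [h1, orderOf_one] at h; norm_num at h
  have e : {g : G // orderOf g = 11} ≃ {g : M // orderOf g = 11} :=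
    { toFun := fun g => ⟨f ⟨g.1, hne _ g.2⟩, (hcent _).1 (hall _ g.2)⟩
      invFun := fun g => ⟨f.symm ⟨g.1, hne' _ g.2⟩,
        hord _ ((hcent _).2 (by rw [f.apply_symm_apply]; exact g.2))⟩
      left_inv := fun g => Subtype.ext (by
        show (f.symm ⟨((f ⟨g.1, _⟩ : {y : M // y ≠ 1}) : M), _⟩ : G) = g.1
        rw [Subtype.coe_eta, f.symm_apply_apply])
      right_inv := fun g => Subtype.ext (by
        show (f ⟨((f.symm ⟨g.1, _⟩ : {x : G // x ≠ 1}) : G), _⟩ : M) = g.1
        rw [Subtype.coe_eta, f.apply_symm_apply]) }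
  have h := Nat.card_congr e
  rw [card_orderOf_eleven hG, count_eleven_simple hM] at h
  omega

end CfsgLib.MElevenNSE
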